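-- Team project BRA (S4484): package [C2] - a nonprincipal character of degree prime to q in the
-- principal p-block (block orthogonality at 1 and an element of order p).  (helper26; the
-- argument is the one of the landed S4500.)
import Mathlib
import Cfsg.Agent.Lib.Helper95.BRA.Defs
import Cfsg.Agent.Lib.Helper79.CharGap
import Cfsg.Agent.Lib.Helper78.BlockOrth
import Cfsg.Agent.Lib.Helper77.Defect
import Cfsg.Agent.Lib.Helper81.CharCore

set_option autoImplicit false
open Cfsg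

namespace Cfsg.Agent.Lib.Helper26.BRA

open Cfsg.Agent.Lib.Helper95.BRA

universe u

/-- a `p`-modular maximal ideal of the ring of algebraic integers exists -/
theorem c2_exists_isPModular (p : ℕ) (hp : p.Prime) :
    ∃ M : Ideal Cfsg.AlgInt, Cfsg.IsPModular p M := by
  have hne : Ideal.span {((p : ℕ) : Cfsg.AlgInt)} ≠ ⊤ := by
    rw [Ne, Ideal.span_singleton_eq_top]
    intro hu
    obtain ⟨v, hv⟩ := hu.exists_right_inv
    have h1 : ((1 : ℕ) : ℂ) = ((p : ℕ) : ℂ) * (v : ℂ) := by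
      have := congrArg (integralClosure ℤ ℂ).val hv
      rw [map_mul, map_natCast, map_one] at this
      rw [Nat.cast_one]
      exact this.symm
    have h2 := Cfsg.Agent.Lib.Helper79.nat_dvd_of_eq_mul_isIntegral 1 p hp.ne_zero (v : ℂ) v.2 h1
    have := Nat.le_of_dvd Nat.one_pos h2
    have := hp.one_lt
    omega
  obtain ⟨M, hM, hle⟩ := Ideal.exists_le_maximal _ hne
  exact ⟨M, hp, hM, hle (Ideal.subset_span rfl)⟩

/-- **[C2]** -/
theorem pkgC2 : PkgC2.{u} := by
  intro G _ _ p q hp hq z hz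
  classical
  have hfin := Cfsg.Agent.Lib.Helper81.irr_finite G
  have : Fact p.Prime := ⟨hp⟩
  let _ := Fintype.ofFinite G
  have hgs : p ∣ orderOf z⁻¹ := by rw [orderOf_inv, hz]
  obtain ⟨M, hM⟩ := c2_exists_isPModular p hp
  have hMp : M.IsPrime := hM.2.1.isPrime
  have hB := Cfsg.Agent.Lib.Helper77.isPBlock_principalBlock (G := G) M
  have horth := Cfsg.Agent.Lib.Helper78.block_orth_regular_singular hM
    (Cfsg.principalBlock M G) hB (u := (1 : G)) (g := z⁻¹)
    (by rw [orderOf_one]; exact fun h => hp.one_lt.ne' (Nat.dvd_one.mp h)) hgs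
  rw [inv_inv] at horth
  have hBfin : (Cfsg.principalBlock M G).Finite := Set.toFinite _
  rw [finsum_mem_eq_finite_toFinset_sum _ hBfin] at horth
  have htriv : Cfsg.Agent.Lib.Helper77.trivIrr G ∈ hBfin.toFinset := by
    rw [Set.Finite.mem_toFinset]
    exact Cfsg.Agent.Lib.Helper77.trivIrr_mem_principalBlock hMp
  rw [← Finset.add_sum_erase _ _ htriv] at horth
  rw [Cfsg.Agent.Lib.Helper77.trivIrr_apply, Cfsg.Agent.Lib.Helper77.trivIrr_apply, one_mul]
    at horth
  have hex : ∃ χ ∈ Cfsg.principalBlock M G, χ ≠ Cfsg.Agent.Lib.Helper77.trivIrr G ∧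
      ¬ q ∣ Cfsg.charDegree (χ : G → ℂ) := by
    by_contra hcon
    push Not at hcon
    have hsum : ∃ α : ℂ, IsIntegral ℤ α ∧
        ∑ χ ∈ hBfin.toFinset.erase (Cfsg.Agent.Lib.Helper77.trivIrr G),
          (χ : G → ℂ) 1 * (χ : G → ℂ) z = (q : ℂ) * α := by
      apply Finset.sum_induction _ (fun w : ℂ => ∃ α : ℂ, IsIntegral ℤ α ∧ w = (q : ℂ) * α)
      · rintro x y ⟨α, hα, rfl⟩ ⟨β, hβ, rfl⟩
        exact ⟨α + β, hα.add hβ, by ring⟩
      · exact ⟨0, isIntegral_zero, by simp⟩
      · intro χ hχ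
        rw [Finset.mem_erase, Set.Finite.mem_toFinset] at hχ
        obtain ⟨m, hm⟩ := hcon χ hχ.2 hχ.1
        have h1 := (Cfsg.Agent.Lib.Helper79.irr_charDegree χ.2).1
        refine ⟨(m : ℂ) * (χ : G → ℂ) z, ?_, ?_⟩
        · have hmi : IsIntegral ℤ ((m : ℕ) : ℂ) := by
            have := isIntegral_algebraMap (R := ℤ) (A := ℂ) (x := (m : ℤ))
            simpa using this
          exact hmi.mul (Cfsg.Agent.Lib.Helper79.irr_isIntegral χ.2 z)
        · rw [h1, hm]
          push_cast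
          ring
    obtain ⟨α, hα, hsum'⟩ := hsum
    rw [hsum'] at horth
    have h1 : ((1 : ℕ) : ℂ) = (q : ℂ) * (-α) := by
      rw [Nat.cast_one]
      linear_combination horth
    have h2 := Cfsg.Agent.Lib.Helper79.nat_dvd_of_eq_mul_isIntegral 1 q hq.ne_zero (-α) hα.neg h1
    have := Nat.le_of_dvd Nat.one_pos h2
    have := hq.one_lt
    omega
  obtain ⟨χ, hχB, hχne, hqχ⟩ := hex
  refine ⟨M, hM, (χ : G → ℂ), χ.2, ?_, hqχ, hχB⟩
  intro h
  apply hχne
  apply Subtype.ext
  rw [h]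
  rfl

end Cfsg.Agent.Lib.Helper26.BRA
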